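import Cfsg.Agent.H666.TraceZero

/-!
# S5917, type D: the trace lemma BETA for the quaternion group (helper198)

`K` a field of characteristic two, `M` a `K[Q]`-module of dimension eight, `Q` a quaternion group of order eight, `B` a nondegenerate
symmetric invariant form, `Y` with `B (Y x) x' + B x (Y x') = m B x x'` and `∑ q, B (Y (q u)) (q u) = 0`. Then
`∑ q, q Y q⁻¹` is not injective.
-/

set_option autoImplicit false
set_option linter.unusedSectionVars false

namespace Cfsg.Agent.H198.L34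

open Module

/-- sums over the orbits of an involution without fixed points -/
theorem sum_pair {α K : Type*} [Fintype α] [DecidableEq α] [AddCommMonoid K] (σ : α → α) (hσ : ∀ x, σ (σ x) = x)
    (hfix : ∀ x, σ x ≠ x) (t : α → K) (c : K) (h : ∀ x, t x + t (σ x) = c) :
    ∃ k, 2 * k = Fintype.card α ∧ ∑ x, t x = k • c := by
  classical
  let e := Fintype.equivFin α
  let S : Finset α := Finset.univ.filter fun x => e x < e (σ x)
  let S' : Finset α := Finset.univ.filter fun x => ¬ e x < e (σ x)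
  have hmem : ∀ x, x ∈ S ↔ e x < e (σ x) := fun x => by simp [S]
  have hmem' : ∀ x, x ∈ S' ↔ e (σ x) < e x := fun x => by
    simp only [S', Finset.mem_filter, Finset.mem_univ, true_and, not_lt]
    constructor
    · intro h1
      exact lt_of_le_of_ne h1 fun h2 => hfix x (e.injective h2)
    · exact le_of_lt
  have hto : ∀ x ∈ S, σ x ∈ S' := fun x hx => by
    rw [hmem'] 
    rw [hmem] at hx
    rw [hσ]
    exact hx
  have hto' : ∀ x ∈ S', σ x ∈ S := fun x hx => by
    rw [hmem]
    rw [hmem'] at hx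
    rw [hσ]
    exact hx
  have hcard : S'.card = S.card := (Finset.card_bij' (fun x _ => σ x) (fun x _ => σ x) hto hto' (fun x _ => hσ x)
    fun x _ => hσ x).symm
  have hsum : ∑ x ∈ S', t x = ∑ x ∈ S, t (σ x) :=
    (Finset.sum_bij' (fun x _ => σ x) (fun x _ => σ x) hto hto' (fun x _ => hσ x) (fun x _ => hσ x) fun x _ => rfl).symm
  have h1 : S.card + S'.card = Fintype.card α := by
    rw [← Finset.card_univ]
    exact Finset.card_filter_add_card_filter_not _
  refine ⟨S.card, by omega, ?_⟩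
  rw [← Finset.sum_filter_add_sum_filter_not Finset.univ (fun x => e x < e (σ x))]
  change ∑ x ∈ S, t x + ∑ x ∈ S', t x = _
  rw [hsum, ← Finset.sum_add_distrib, Finset.sum_congr rfl fun x _ => h x, Finset.sum_const]

/-- a quaternion group of order eight with central involution `z` -/
structure QLike {Q : Type*} [Group Q] [Fintype Q] (z : Q) : Prop where
  card : Fintype.card Q = 8
  ne : z ≠ 1
  sq : z * z = 1
  comm : ∀ q, z * q = q * z
  inv : ∀ q, q ≠ 1 → q ≠ z → q⁻¹ = z * q

section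

variable {K : Type*} [Field K] {M : Type*} [AddCommGroup M] [Module K M]
  {Q : Type*} [Group Q] [Fintype Q] (ρ : Representation K Q M)

theorem rho_mul (p q : Q) (v : M) : ρ (p * q) v = ρ p (ρ q v) := by
  rw [map_mul]; rfl

theorem rho_one (v : M) : ρ 1 v = v := by
  rw [map_one]; rfl

/-- the trace -/
def tr (Y : Module.End K M) : Module.End K M := ∑ q, (ρ q) * Y * (ρ q⁻¹)

theorem tr_apply (Y : Module.End K M) (v : M) : tr ρ Y v = ∑ q, ρ q (Y (ρ q⁻¹ v)) := by
  rw [tr, LinearMap.sum_apply]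
  rfl

theorem tr_comm (Y : Module.End K M) (g : Q) (v : M) : tr ρ Y (ρ g v) = ρ g (tr ρ Y v) := by
  rw [tr_apply, tr_apply, map_sum]
  refine (Fintype.sum_equiv (Equiv.mulLeft g) _ _ fun q => ?_).symm
  change ρ g (ρ q (Y (ρ q⁻¹ v))) = ρ (g * q) (Y (ρ (g * q)⁻¹ (ρ g v)))
  rw [← rho_mul ρ (g * q)⁻¹, rho_mul ρ g q, mul_inv_rev, inv_mul_cancel_right]

/-- the fixed space -/
def fixS : Submodule K M where
  carrier := {v | ∀ q, ρ q v = v}
  add_mem' := fun {a b} ha hb q => by rw [map_add, ha q, hb q]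
  zero_mem' := fun q => map_zero _
  smul_mem' := fun c a ha q => by rw [map_smul, ha q]

theorem tr_fix (Y : Module.End K M) {v : M} (hv : v ∈ fixS ρ) : tr ρ Y v = ∑ q, ρ q (Y v) := by
  rw [tr_apply]
  exact Finset.sum_congr rfl fun q _ => by rw [hv q⁻¹]

variable [FiniteDimensional K M]

/-- an injective trace is onto on the fixed space -/
theorem exists_pre (Y : Module.End K M) (hY : Function.Injective (tr ρ Y)) {x : M} (hx : x ∈ fixS ρ) :
    ∃ x' ∈ fixS ρ, tr ρ Y x' = x := by
  have h1 : ∀ v ∈ fixS ρ, tr ρ Y v ∈ fixS ρ := fun v hv q => by rw [← tr_comm, hv q]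
  have h2 : Function.Injective ((tr ρ Y).restrict h1) := fun u v huv =>
    Subtype.ext (hY (congrArg Subtype.val huv))
  obtain ⟨v, hv⟩ := LinearMap.injective_iff_surjective.1 h2 ⟨x, hx⟩
  exact ⟨v, v.2, congrArg Subtype.val hv⟩

/-- the regular representation on functions -/
def reg (K : Type*) [Field K] (Q : Type*) [Group Q] : Representation K Q (Q → K) where
  toFun g := LinearMap.funLeft K K fun q => g⁻¹ * q
  map_one' := by
    ext f q
    simp [LinearMap.funLeft_apply]
  map_mul' g h := by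
    apply LinearMap.ext
    intro f
    funext q
    change f ((g * h)⁻¹ * q) = f (h⁻¹ * (g⁻¹ * q))
    rw [mul_inv_rev, mul_assoc]

theorem reg_apply (g q : Q) (f : Q → K) : reg K Q g f q = f (g⁻¹ * q) := rfl

/-- **a vector with nonzero norm generates a free module** -/
theorem span_of_norm [CharP K 2] (hQ : IsPGroup 2 Q) (hM : finrank K M = Fintype.card Q) {f : M}
    (hf : ∑ q, ρ q f ≠ 0) (v : M) : ∃ c : Q → K, ∑ q, c q • ρ q f = v := by
  classical
  let φ : (Q → K) →ₗ[K] M := Fintype.linearCombination K fun q => ρ q f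
  have hφ : ∀ c, φ c = ∑ q, c q • ρ q f := fun c => Fintype.linearCombination_apply K _ c
  have hker : LinearMap.ker φ = ⊥ := by
    by_contra hne
    obtain ⟨c, hc, hc0, hfix⟩ := Cfsg.Agent.H666.exists_fixed_ne_zero hQ (reg K Q) (LinearMap.ker φ) (by
      intro g c hc
      rw [LinearMap.mem_ker, hφ] at hc ⊢
      have h1 : ∑ q, (reg K Q g c) q • ρ q f = ρ g (∑ q, c q • ρ q f) := by
        rw [map_sum]
        refine (Fintype.sum_equiv (Equiv.mulLeft g) _ _ fun q => ?_).symm
        change ρ g (c q • ρ q f) = (c (g⁻¹ * (g * q))) • ρ (g * q) f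
        rw [inv_mul_cancel_left, map_smul, rho_mul]
      rw [h1, hc, map_zero]) hne
    have h2 : ∀ q, c q = c 1 := fun q => by
      have h3 := congrFun (hfix q) q
      rw [reg_apply, inv_mul_cancel] at h3
      exact h3.symm
    rw [LinearMap.mem_ker, hφ, Finset.sum_congr rfl fun q _ => by rw [h2 q], ← Finset.smul_sum] at hc
    rcases smul_eq_zero.1 hc with h4 | h4
    · apply hc0
      funext q
      rw [h2 q, h4]
      rfl
    · exact hf h4
  have hsurj : Function.Surjective φ :=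
    (LinearMap.injective_iff_surjective_of_finrank_eq_finrank (by
      rw [Module.finrank_fintype_fun_eq_card, hM])).1 (LinearMap.ker_eq_bot.1 hker)
  obtain ⟨c, hc⟩ := hsurj v
  exact ⟨c, by rw [← hφ, hc]⟩

end

/-- **(BETA)** -/
theorem beta {K : Type*} [Field K] [CharP K 2] {M : Type*} [AddCommGroup M] [Module K M] [FiniteDimensional K M]
    (hM : finrank K M = 8) {Q : Type*} [Group Q] [Fintype Q] {z : Q} (hz : QLike z) (ρ : Representation K Q M)
    (B : LinearMap.BilinForm K M) (hB : ∀ v, (∀ w, B v w = 0) → v = 0) (hs : ∀ u v, B u v = B v u)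
    (hi : ∀ q u v, B (ρ q u) (ρ q v) = B u v) (Y : Module.End K M) (m : K)
    (hY : ∀ x x', B (Y x) x' + B x (Y x') = m * B x x') (hu : ∀ u, ∑ q, B (Y (ρ q u)) (ρ q u) = 0) :
    ¬ Function.Injective (tr ρ Y) := by
  classical
  intro hinj
  have h2 : (2 : K) = 0 := CharTwo.two_eq_zero
  have haa : ∀ a : K, a + a = 0 := fun a => CharTwo.add_self_eq_zero a
  have hP : IsPGroup 2 Q := IsPGroup.of_card (n := 3) (by rw [Nat.card_eq_fintype_card, hz.card]; norm_num)
  have hnt : Nontrivial M := Module.nontrivial_of_finrank_pos (R := K) (by rw [hM]; norm_num)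
  -- the form `b`
  set b : M → M → K := fun u w => ∑ q, B (Y (ρ q u)) (ρ q w) with hb
  have hab : ∀ u w, B (tr ρ Y u) w = b u w := by
    intro u w
    rw [tr_apply, map_sum, LinearMap.sum_apply, hb]
    refine Fintype.sum_equiv (Equiv.inv Q) _ _ fun q => ?_
    change B (ρ q (Y (ρ q⁻¹ u))) w = B (Y (ρ q⁻¹ u)) (ρ q⁻¹ w)
    conv_rhs => rw [← hi q]
    rw [← rho_mul ρ q q⁻¹ w, mul_inv_cancel, rho_one]
  have hbs : ∀ u w, b u w = b w u := by
    intro u w
    have h3 : b u w + b w u = 0 := by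
      rw [hb]
      simp only
      rw [← Finset.sum_add_distrib]
      have h4 : ∀ q : Q, B (Y (ρ q u)) (ρ q w) + B (Y (ρ q w)) (ρ q u) = m * B u w := fun q => by
        rw [hs (Y (ρ q w)), hY, hi]
      rw [Finset.sum_congr rfl fun q _ => h4 q, Finset.sum_const, Finset.card_univ, hz.card, nsmul_eq_mul]
      have : ((8 : ℕ) : K) = 2 * 4 := by norm_num
      rw [this, h2, zero_mul, zero_mul]
    have h5 := haa (b w u)
    linear_combination h3 - h5
  have hbi : ∀ g u w, b (ρ g u) (ρ g w) = b u w := by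
    intro g u w
    rw [hb]
    refine Fintype.sum_equiv (Equiv.mulRight g) _ _ fun q => ?_
    change B (Y (ρ q (ρ g u))) (ρ q (ρ g w)) = B (Y (ρ (q * g) u)) (ρ (q * g) w)
    rw [rho_mul, rho_mul]
  have hba : ∀ s : Finset Q, ∀ (c : Q → M) (w : M), b (∑ p ∈ s, c p) w = ∑ p ∈ s, b (c p) w := by
    intro s c w
    rw [← hab, map_sum, map_sum, LinearMap.sum_apply]
    exact Finset.sum_congr rfl fun p _ => hab _ _
  -- a fixed vector
  obtain ⟨x, -, hx0, hxf⟩ := Cfsg.Agent.H666.exists_fixed_ne_zero hP ρ ⊤ (fun g w _ => trivial) (by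
    intro h3
    exact absurd h3.symm (bot_ne_top))
  obtain ⟨x', hx', hxx⟩ := exists_pre ρ Y hinj (x := x) hxf
  rw [tr_fix ρ Y hx'] at hxx
  set f := Y x' with hf
  -- values
  have hbz : b f (ρ z f) = 0 := by
    obtain ⟨k, hk, hsum⟩ := sum_pair (fun q : Q => q * z) (fun q => by
      rw [mul_assoc, hz.sq, mul_one]) (fun q h3 => hz.ne (mul_eq_left.1 h3))
      (fun q => B (Y (ρ q f)) (ρ q (ρ z f))) (m * B (ρ z f) f) (fun q => by
        change B (Y (ρ q f)) (ρ q (ρ z f)) + B (Y (ρ (q * z) f)) (ρ (q * z) (ρ z f)) = _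
        rw [← rho_mul ρ (q * z) z f, mul_assoc, hz.sq, mul_one, ← rho_mul ρ q z f, hs (Y (ρ q f)), add_comm, hY,
          rho_mul, hi])
    rw [hz.card] at hk
    have hk4 : k = 4 := by omega
    rw [hk4, nsmul_eq_mul] at hsum
    have h4 : ((4 : ℕ) : K) = 2 * 2 := by norm_num
    rw [h4, h2, zero_mul, zero_mul] at hsum
    exact hsum
  have hbq : ∀ q, b f (ρ q f) = b f (ρ q⁻¹ f) := by
    intro q
    rw [← hbi q⁻¹ f (ρ q f), ← rho_mul ρ q⁻¹ q f, inv_mul_cancel, rho_one, hbs]
  have hbsum : ∑ q, b f (ρ q f) = 0 := by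
    refine Finset.sum_involution (fun q _ => z * q) (fun q _ => ?_) (fun q _ _ h3 => hz.ne (mul_eq_right.1 h3))
      (fun q _ => Finset.mem_univ _) (fun q _ => by
        rw [← mul_assoc, hz.sq, one_mul])
    by_cases hq1 : q = 1
    · rw [hq1, mul_one, rho_one, hbz, add_zero]
      exact hu f
    · by_cases hqz : q = z
      · rw [hqz, hz.sq, rho_one, hbz, zero_add]
        exact hu f
      · rw [← hz.inv q hq1 hqz, ← hbq q]
        exact haa _
  have hax : tr ρ Y x = 0 := by
    apply hB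
    intro w
    have hfn : ∑ q, ρ q f ≠ 0 := by rw [hxx]; exact hx0
    obtain ⟨c, rfl⟩ := span_of_norm ρ hP (by rw [hM, hz.card]) hfn w
    rw [map_sum]
    refine Finset.sum_eq_zero fun g _ => ?_
    rw [map_smul, hab, ← hxx, hba]
    have h3 : ∑ p, b (ρ p f) (ρ g f) = ∑ q, b f (ρ q f) := by
      refine Fintype.sum_equiv ((Equiv.inv Q).trans (Equiv.mulRight g)) _ _ fun p => ?_
      change b (ρ p f) (ρ g f) = b f (ρ (p⁻¹ * g) f)
      rw [← hbi p⁻¹, ← rho_mul ρ p⁻¹ p f, inv_mul_cancel, rho_one, ← rho_mul ρ p⁻¹ g f]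
    rw [h3, hbsum, smul_zero]
  exact hx0 (hinj (by rw [hax, map_zero]))

end Cfsg.Agent.H198.L34
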