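import Cfsg.Agent.H400.L34.QBasis
import Cfsg.Agent.H198.L34.HTwenty

/-!
# S5917, type D: an involution which is the square in a quaternion group of isometries is of type `c₄` (helper198)
-/

set_option autoImplicit false
set_option linter.unusedSectionVars false

namespace Cfsg.Agent.H198.L34

open Module Cfsg.Agent.H400.L34.QFree

variable {K : Type*} [Field K] {U : Type*} [AddCommGroup U] [Module K U] {i j : U →ₗ[K] U}

theorem nrm_i (h : QL i j) (v : U) : i (nrm i j v) = nrm i j v := by
  unfold nrm
  simp only [map_add, h.four]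
  abel

theorem nrm_j (h : QL i j) (v : U) : j (nrm i j v) = nrm i j v := by
  unfold nrm
  simp only [map_add, h.ji, h.four, h.sq]
  abel

/-- **type `c₄`** -/
theorem exists_c4 [CharP K 2] [IsAlgClosed K] [FiniteDimensional K U] (hU : finrank K U = 8) (h : QL i j)
    (hf : ∀ v, i (i v) = v → ∃ w, v = w + i (i w)) {B : LinearMap.BilinForm K U} {Q : U → K}
    (hB : QS B Q (i ∘ₗ i)) (hi : ∀ u w, B (i u) (i w) = B u w) (hj : ∀ u w, B (j u) (j w) = B u w) :
    ∃ u, B u (i (i u)) ≠ 0 := by
  by_contra hcon
  push Not at hcon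
  have hnt : Nontrivial U := Module.nontrivial_of_finrank_pos (R := K) (by rw [hU]; norm_num)
  obtain ⟨v, hv⟩ := h.exists_nrm hf
  apply hv
  have hs := hB.symm
  have e1 : B v (i (i (i v))) = B v (i v) := by
    rw [← hi, h.four, hs]
  have e2 : B v (i (i (j v))) = B v (j v) := by
    rw [← h.jz v, ← hj v (j (i (i v))), h.sq (i (i v)), h.four, hs]
  have e3 : B v (i (i (i (j v)))) = B v (i (j v)) := by
    have h1 : B v (i (i (i (j v)))) = B v (j (i v)) := by rw [h.ji]
    rw [h1]
    have h2 : B v (j (i v)) = B (i (j v)) (i (j (j (i v)))) := by rw [hi, hj]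
    rw [h2, h.sq, h.four, hs]
  have hvv : B v (nrm i j v) = 0 := by
    unfold nrm
    simp only [map_add]
    rw [hB.self, hcon, e1, e2, e3]
    have t1 := kadd (B v (i v))
    have t2 := kadd (B v (j v))
    have t3 := kadd (B v (i (j v)))
    linear_combination t1 + t2 + t3
  have gi : ∀ u, B (i u) (nrm i j v) = B u (nrm i j v) := fun u => by
    conv_lhs => rw [← nrm_i h v]
    rw [hi]
  have gj : ∀ u, B (j u) (nrm i j v) = B u (nrm i j v) := fun u => by
    conv_lhs => rw [← nrm_j h v]
    rw [hj]
  have hli := h.indep hv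
  have hsp : Submodule.span K (Set.range (vec i j v)) = ⊤ :=
    hli.span_eq_top_of_card_eq_finrank (by rw [Fintype.card_fin, hU])
  apply hB.nd
  intro w
  rw [hs]
  have hw : w ∈ Submodule.span K (Set.range (vec i j v)) := by rw [hsp]; exact Submodule.mem_top
  refine Submodule.span_induction (p := fun w _ => B w (nrm i j v) = 0) ?_ ?_ ?_ ?_ hw
  · rintro _ ⟨k, rfl⟩
    fin_cases k <;> simp [vec, gi, gj, hvv]
  · rw [map_zero, LinearMap.zero_apply]
  · intro x y _ _ hx hy
    rw [map_add, LinearMap.add_apply, hx, hy, add_zero]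
  · intro a x _ hx
    rw [map_smul, LinearMap.smul_apply, hx, smul_zero]

end Cfsg.Agent.H198.L34
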