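import Cfsg.Agent.H544.L34.DNil
import Cfsg.Agent.H942.DF.H20a
import Cfsg.Agent.H736.L34.FreeTr
import Cfsg.Agent.H436.L34.Desc

/-!
# S5917, type D: the frame `Fr` on `LK` (helper198)

* `lna g` : the linear map of `g`;
* `key` : the value of `la` at the negative character is the multiplier;
* `fr` : the structure `Fr` of `HTwentyB.lean` for the frame `DFr` of helper544;
* `twenty` : `finrank (M0 ⊓ ker (i i + 1)) = 20`.
-/

set_option autoImplicit false
set_option maxRecDepth 100000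

namespace Cfsg.Agent.H198.L34

open Module
open Cfsg Cfsg.Lie Cfsg.Lie.ChevalleyDatum
open Cfsg.Agent.ChevalleyStructure Cfsg.Agent.ChevalleyStructure.LieAbs
open Cfsg.Agent.ChevalleyStructure.Columns (car cor)
open Cfsg.Agent.H939.L64 Cfsg.Agent.H413.L16 Cfsg.Agent.H201.L34 Cfsg.Agent.H251.L34
open Cfsg.Agent.H942.DF
open Cfsg.Agent.H876.L64
open Cfsg.Agent.H544.L34
open Cfsg.Agent.H400.L34 (Z00)
open Cfsg.Agent.H413.L64 (charKK)

variable {t1 t2 : ↥(chevE8.group KK)} {ζ : KK} {i j : ↥(chevE8.group KK)}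

/-- the linear map of `g` -/
noncomputable def lna (g : ↥(chevE8.group KK)) : LK →ₗ[KK] LK where
  toFun := aK g
  map_add' := aK_add g
  map_smul' := aK_smul g

@[simp] theorem lna_apply (g : ↥(chevE8.group KK)) (x : LK) : lna g x = aK g x := rfl

theorem key_tab : ∀ (X : Fin 3) (i : Fin 8), ((car chevE8 i (mt X (nw 0) 0) - car chevE8 i (mt X 0 0)) -
    (car chevE8 i (mt X 0 0) + car chevE8 i (mt X 0 7))) % 2 = 0 := by decide +kernel

theorem key (X : Fin 3) (x : LK) : la X (nw 0) x = cm X x := by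
  rw [la_phi, cm_phi, phi_apply, phi_apply]
  refine Finset.sum_congr rfl fun i _ => ?_
  have e := cast_even (key_tab X i)
  push_cast at e ⊢
  linear_combination (x (Sum.inl (show Fin chevE8.rank from i))) * e

/-- an element of `D` acting as zero in coordinates -/
theorem er_zero (h : EF t1 t2 ζ) {d : LK} (hd : d ∈ Mp t1 t2 ζ) {X : Fin 3} (h0 : ∀ v, AA X 0 d v = 0) (k : Fin 8) :
    brK d (er (mt X 0 k)) = 0 := by
  rw [← io_single, br_io (M0_Z00 h (Mp_le_M0 hd)), h0, map_zero]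

instance : CharP KK 2 := charKK

theorem DFr.zz1 (f : DFr t1 t2 ζ i j) : (i * i) * t1 * (i * i)⁻¹ = t1⁻¹ := by
  have h : (i * i) * t1 * (i * i)⁻¹ = i * (i * t1 * i⁻¹) * i⁻¹ := by group
  rw [h, f.i1, f.i2]

theorem DFr.zz2 (f : DFr t1 t2 ζ i j) : (i * i) * t2 * (i * i)⁻¹ = t2⁻¹ := by
  have h : (i * i) * t2 * (i * i)⁻¹ = i * (i * t2 * i⁻¹) * i⁻¹ := by group
  have h2 : i * t1⁻¹ * i⁻¹ = (i * t1 * i⁻¹)⁻¹ := by group
  rw [h, f.i2, h2, f.i1]

theorem DFr.z4 (f : DFr t1 t2 ζ i j) : (i * i) ^ 4 = 1 := by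
  rw [← pow_two, ← pow_mul, show 2 * 4 = 4 * 2 by norm_num, pow_mul, f.i4, one_pow]

/-- **the frame on `LK`** -/
theorem fr (f : DFr t1 t2 ζ i j) : Fr (M0 t1 t2) (Mp t1 t2 ζ) (fun X => AA X 0) bf (fun v => qf v) (fun X => cm X) nw la
    (lna i) (lna j) nui nuj (GG i nui) (GG j nuj) where
  hM := fr8
  B := blk f.ef
  Ai := act f.ef (f.ef.NG_i f.i1 f.i2) OR_i f.i4
  Aj := act f.ef (f.ef.NG_j f.j1 f.j2) OR_j f.j4
  four := fun x _ => f.a4 x
  jj := fun x _ => f.ajj x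
  ji := fun x _ => f.aji x
  si2 := nui_nui
  sj2 := nuj_nuj
  key := fun X x _ => key X x
  zD := fun x hx => by
    have hz := f.ef.NG_z (DFr.zz1 f) (DFr.zz2 f)
    have h1 := f.ef.zx_mem (z := i * i) hz.m (f.ef.fix_tz (DFr.zz1 f) (DFr.zz2 f) (DFr.z4 f)) (mem_M0'.1 hx)
    rw [aK_mul'] at h1
    exact h1
  scal := fun X X' d hd h0 => by
    obtain ⟨κ, hκ⟩ := f.ef.ker_X hd (er_zero f.ef hd h0) X'
    refine ⟨κ, fun v => ?_⟩
    apply io_inj X' 0
    rw [← br_io (M0_Z00 f.ef (Mp_le_M0 hd)), map_smul]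
    exact hκ 0 _ (IX_io X' 0 v)
  faith := fun X X' hX d hd h0 h0' => f.ef.ker_XX hd hX (er_zero f.ef hd h0) (er_zero f.ef hd h0')

/-- **`finrank = 20` on `LK`** -/
theorem twenty (f : DFr t1 t2 ζ i j) (h3 : 3 ≤ finrank KK ((M0 t1 t2).map (Cfsg.Agent.H544.L34.trl i j)))
    (h12 : 12 ≤ finrank KK ((M0 t1 t2).map (lna i ∘ₗ lna i + 1))) (h32 : finrank KK (M0 t1 t2) = 32) :
    finrank KK ↥(M0 t1 t2 ⊓ LinearMap.ker (lna i ∘ₗ lna i + 1)) = 20 :=
  Cfsg.Agent.H736.L34.Fr.twenty_tr (fr f) h3 h12 h32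

/-! ### descent to `F₂` -/

/-- the dimension of a fixed space, in the coordinates of `z` -/
theorem finrank_z (z : ↥(chevE8.group KK)) (S : Set E2) (N : Submodule KK LK)
    (hN : ∀ v, v ∈ N ↔ ∀ g ∈ S, aK (z⁻¹ * em g * z) v = v) :
    finrank KK N = finrank (ZMod 2) (Cfsg.Agent.H436.L34.F2 S) := by
  rw [Cfsg.Agent.H436.L34.finrank_fix S]
  have hinj : Function.Injective (lna z) := fun u v huv => by
    have := congrArg (aK z⁻¹) huv
    rwa [lna_apply, lna_apply, aK_inv_l, aK_inv_l] at this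
  have hmap : N.map (lna z) = Cfsg.Agent.H436.L34.FK S := by
    ext v
    constructor
    · rintro ⟨u, hu, rfl⟩ g hg
      have h1 := (hN u).1 hu g hg
      have h2 : aK (em g) (aK z u) = aK z (aK (z⁻¹ * em g * z) u) := by
        rw [← aK_mul', ← aK_mul']
        congr 1
        group
      rw [lna_apply, h2, h1]
    · intro hv
      refine ⟨aK z⁻¹ v, (hN _).2 fun g hg => ?_, ?_⟩
      · have h2 : aK (z⁻¹ * em g * z) (aK z⁻¹ v) = aK z⁻¹ (aK (em g) v) := by
          rw [← aK_mul', ← aK_mul']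
          congr 1
          group
        rw [h2, hv g hg]
      · rw [lna_apply, aK_inv_r]
  rw [← hmap]
  exact LinearEquiv.finrank_eq (Submodule.equivMapOfInjective (lna z) hinj N)

end Cfsg.Agent.H198.L34
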